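import Groth.Agent.QuotEtale.Torsor
import Groth.Agent.AlgStLib.QuotRepProps
import Groth.Agent.AlgStLib.DiagProps
import Groth.Agent.AlgStLib.DiagFibres
import Groth.Agent.AlgStLib.Misc1
import Groth.Agent.AlgSpLib.FpqcProps
import Groth.Agent.ArtinAtlas.Presentation
import Groth.Agent.AlgStLib.LocQClasses

/-!
# Quotient stacks of smooth affine groups for the etale topology
-/

set_option autoImplicit false
set_option backward.isDefEq.respectTransparency false
set_option backward.isDefEq.respectTransparency.types false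
set_option linter.style.haveILetI false
universe u

noncomputable section

namespace Groth.Agent.QuotEtale

open CategoryTheory CategoryTheory.Limits MonoidalCategory AlgebraicGeometry Opposite Groth.Agent.FibCatRep
  Groth.Agent.FibCat2Misc Groth.Agent.AlgSpLib Groth.Agent.StkBasic Groth.Agent.AlgStLib
open _root_.AlgSp _root_.AlgSt

variable {S : Scheme.{u}} {G X : Over S} [GrpObj G] {aX : AlgGrp.Action G X}

theorem repWith_affine_qX [IsAffineHom G.hom] :
    RepByAlgSpWith (RepWith (S := S) @IsAffineHom) (Quot.qX (aX := aX)) :=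
  Quot.repWith_qX _ fun A {U} e => (repWith_yon_map_iff _ _).2 (by
    haveI : IsIso e.hom.left := Functor.map_isIso (Over.forget S) e.hom
    show IsAffineHom (A.π.left ≫ e.hom.left)
    exact (MorphismProperty.cancel_right_of_respectsIso @IsAffineHom _ _).2
      (Quot.prop_π @IsAffineHom ‹_› A))

theorem isLocalOnBase_affine : IsLocalOnBase (IsFppfCover (S := S)) (RepWith (S := S) @IsAffineHom) :=
  isLocalOnBase_fppf (isLocalOnBase_repWith @IsAffineHom fun _ _ r hr => by
    have : IsAffineHom r := hr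
    exact indQA_of_isAffineHom r)

/-- the structure functor of a scheme with affine diagonal has affine diagonal -/
theorem repWith_affine_diag_toSelf (hX : IsAffineHom (pullback.diagonal X.hom)) :
    RepByAlgSpWith (RepWith (S := S) @IsAffineHom)
      (FibCat.diag (FibCat.toSelf (Stk.ofPsh ((pyon S).obj X)))) := by
  let P : MorphismProperty Scheme.{u} := MorphismProperty.diagonal @IsAffineHom
  let t : X ⟶ AlgStLib.base S := Over.homMk X.hom (Category.comp_id _)
  have h₁ : RepByAlgSpWith (RepWith (S := S) P) (Stk.ofPshMap ((pyon S).map t)) :=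
    (repWith_ofPshMap_iff _ _).2 (repBySpWith_repWith (IsAlgSpace.yon_obj X) (IsAlgSpace.yon_obj _)
      ((yon S).map t) ((repWith_yon_map_iff _ _).2 hX))
  have h₂ : RepByAlgSpWith (RepWith (S := S) P) (FibCat.toSelf (Stk.ofPsh ((pyon S).obj X))) :=
    (repWith_iff_of_equiv _ (FibCat.toSelf (Stk.ofPsh ((pyon S).obj X))) (Stk.ofPshMap ((pyon S).map t))
      (BasedFunctor.id _) (FibCat.toSelf (Stk.ofPsh ((pyon S).obj (AlgStLib.base S)))) isEquivOver_id
      isEquivOver_toSelf_base (eqToIso (comp_toSelf _))).2 h₁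
  refine repWith_diag_of_repWith h₂ fun Y U π hY hπ => ?_
  refine repBySpWith_repWith hY
    (isAlgSpace_of_isPullback_space (IsAlgSpace.yon_obj U) hY hY (IsPullback.of_hasPullback π π)) _ ?_
  obtain ⟨V, v, p, sq⟩ := hπ.rep (𝟙 ((yon S).obj U))
  have hv : P v.left := hπ.property _ _ _ sq
  haveI : IsIso p := sq.isIso_fst_of_isIso
  have hp : π = inv p ≫ (yon S).map v := by
    rw [IsIso.eq_inv_comp, sq.w, Category.comp_id]
  rw [hp]
  refine (MorphismProperty.cancel_left_of_respectsIso
    (MorphismProperty.diagonal (RepWith (S := S) @IsAffineHom)) (inv p) ((yon S).map v)).2 ?_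
  exact (repWith_diagonal_yon_map_iff _ v).2 hv

/-- affine diagonals of quotient stacks -/
theorem repWith_affine_diag [IsAffineHom G.hom] [Flat G.hom] [LocallyOfFinitePresentation G.hom]
    (d : RepByAlgSp1 (FibCat.diag (FibCat.toSelf (AlgSt.QuotSt Scheme.fppfPrecoverage G aX))))
    (hX : IsAffineHom (pullback.diagonal X.hom)) :
    RepByAlgSpWith AlgSp.IsAffineMor
      (FibCat.diag (FibCat.toSelf (AlgSt.QuotSt Scheme.fppfPrecoverage G aX))) := by
  let x : Stk.ofPsh ((pyon S).obj X) ⥤ᵇ AlgSt.QuotSt Scheme.fppfPrecoverage G aX :=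
    AlgSt.quotMap Scheme.fppfPrecoverage G aX
  have key : ∀ P : MorphismProperty (Sp S), RepByAlgSpWith P (Quot.qX (aX := aX)) → RepByAlgSpWith P x :=
    fun P h => (repWith_iff_of_equiv P x (Quot.qX (aX := aX)) (AlgSt.ofOverCat X) (BasedFunctor.id _)
      (isEquivOver_ofOverCat X) isEquivOver_id (Iso.refl _)).2 h
  have hx := key _ (repWith_affine_qX (G := G) (X := X) (aX := aX))
  have hw : Lifts x := lifts_of_fppf (key _ (Quot.repWith_qX_locP @Flat etST_flat ‹_›))
    (key _ (Quot.repWith_qX_locP @LocallyOfFinitePresentation etST_lfp ‹_›))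
    (key _ Quot.repWith_qX_surjective)
  let t := FibCat.toSelf (AlgSt.QuotSt Scheme.fppfPrecoverage G aX)
  let ε : BasedFunctor.comp (FibCat.fpFst x x) (BasedFunctor.comp x t) ≅
      BasedFunctor.comp (FibCat.fpSnd x x) (BasedFunctor.comp x t) := (post _ t).mapIso (FibCat.fpIso x x)
  let C := FibCat.fpLift (FibCat.fpFst x x) (FibCat.fpSnd x x) ε
  have hxt : RepByAlgSpWith (RepWith (S := S) @IsAffineHom) (FibCat.diag (BasedFunctor.comp x t)) := by
    rw [comp_toSelf]
    exact repWith_affine_diag_toSelf hX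
  have hg := isFibGrpd_ofSpace ((pyon S).obj X)
  have h𝒳 := (Quot.isStack G aX).1
  have hC : RepByAlgSpWith (RepWith (S := S) @IsAffineHom) C :=
    repWith_cancel_rep (isFibGrpd_fp hg hg h𝒳 x x) (isFibGrpd_fp hg hg isFibGrpd_selfOver _ _) hg C
      (FibCat.fpFst (BasedFunctor.comp x t) (BasedFunctor.comp x t))
      (repWith_congr _ (Iso.refl _) (repWith_fpFst _ x x hx)) (repWith_diag_fpFst _ _ hxt)
  refine repWith_isAffineMor_iff.2 (repWith_of_lifts (bcStable_repWith @IsAffineHom) isLocalOnBase_affine d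
    (lifts_cmpMap hw) ?_)
  exact (repWith_iff_of_equiv _ (FibCat.fpFst (cmpMap x x t) (FibCat.diag t)) C
    (cmpDiag ε (fun _ => rfl)) (BasedFunctor.id _) (isEquivOver_cmpDiag ε (fun _ => rfl)) isEquivOver_id
    (Iso.refl _)).2 hC

theorem isAlgStack_fppf [IsAffineHom G.hom] [Flat G.hom] [LocallyOfFinitePresentation G.hom] :
    AlgSt.IsAlgStack Scheme.fppfPrecoverage (AlgSt.QuotSt Scheme.fppfPrecoverage G aX) := by
  have key : ∀ P : MorphismProperty (Sp S), RepByAlgSpWith P (Quot.qX (aX := aX)) →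
      RepByAlgSpWith P (AlgSt.quotMap Scheme.fppfPrecoverage G aX) := fun P h =>
    (repWith_iff_of_equiv P (AlgSt.quotMap Scheme.fppfPrecoverage G aX) (Quot.qX (aX := aX))
      (AlgSt.ofOverCat X) (BasedFunctor.id _) (isEquivOver_ofOverCat X) isEquivOver_id (Iso.refl _)).2 h
  exact ArtinAtlas.isAlgStack_of_flat_presentation (Quot.isStack G aX)
    (IsAlgSpace.yon_obj X) (AlgSt.quotMap Scheme.fppfPrecoverage G aX)
    (ArtinAtlas.repWith_flat_lfp (key _ (Quot.repWith_qX_locP @Flat etST_flat ‹_›))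
      (key _ (Quot.repWith_qX_locP @LocallyOfFinitePresentation etST_lfp ‹_›)))
    (key _ Quot.repWith_qX_surjective)

theorem repWith_diag_etale_iff [Smooth G.hom] (Q : MorphismProperty (Sp S)) :
    RepByAlgSpWith Q (FibCat.diag (FibCat.toSelf (AlgSt.QuotSt Scheme.etalePrecoverage G aX))) ↔
      RepByAlgSpWith Q (FibCat.diag (FibCat.toSelf (AlgSt.QuotSt Scheme.fppfPrecoverage G aX))) :=
  (repWith_diag_iff_of_equiv (FibCat.toSelf (AlgSt.QuotSt Scheme.fppfPrecoverage G aX))
    (FibCat.toSelf (AlgSt.QuotSt Scheme.etalePrecoverage G aX)) (toFppf G aX) (BasedFunctor.id _) isEquivOver_toFppf isEquivOver_id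
    (eqToIso (comp_toSelf (toFppf G aX)).symm)).symm

theorem repWith_quotMap_etale_iff [Smooth G.hom] (Q : MorphismProperty (Sp S)) :
    RepByAlgSpWith Q (BasedFunctor.comp (AlgSt.ofOverCat X) (AlgSt.quotMap Scheme.etalePrecoverage G aX)) ↔
      RepByAlgSpWith Q (Quot.qX (aX := aX)) :=
  (repWith_iff_of_equiv Q (Quot.qX (aX := aX)) _ (BasedFunctor.id _) (toFppf G aX) isEquivOver_id isEquivOver_toFppf (Iso.refl _)).symm

theorem isAlgStack_etale [IsAffineHom G.hom] [Smooth G.hom] :
    AlgSt.IsAlgStack Scheme.etalePrecoverage (AlgSt.QuotSt Scheme.etalePrecoverage G aX) := by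
  have h := isAlgStack_fppf (G := G) (X := X) (aX := aX)
  obtain ⟨k, hk, -, -⟩ := isEquivOver_symm (isEquivOver_toFppf (G := G) (X := X) (aX := aX))
  exact ⟨isStack_of_equiv hk _ ⟨h.isStack.1, fun _ R hR =>
      h.isStack.2 R (Precoverage.toGrothendieck_mono QuotShLib.etalePrecoverage_le_fppf _ hR)⟩,
    repByAlgSp1_of_with ((repWith_diag_etale_iff _).2 (repByAlgSpWith_top_iff.2 h.diag)),
    ⟨X, _, (repWith_quotMap_etale_iff _).2 (Quot.repWith_qX_locP @Smooth etST_smooth ‹_›),
      (repWith_quotMap_etale_iff _).2 Quot.repWith_qX_surjective⟩⟩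

end Groth.Agent.QuotEtale

end
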