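import Groth.Agent.AlgStLib.QuotStack
import Groth.Agent.QuotShLib.Fppf
import Groth.Agent.SmSect.Basic

/-!
# Torsors under smooth affine groups: etale and fppf local triviality agree
-/

set_option autoImplicit false
set_option backward.isDefEq.respectTransparency false
set_option backward.isDefEq.respectTransparency.types false
universe u

noncomputable section

namespace Groth.Agent.QuotEtale

open CategoryTheory CategoryTheory.Limits MonoidalCategory CartesianMonoidalCategory MonObj AlgebraicGeometry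
open _root_.AlgSp Groth.Agent.FibCatRep Groth.Agent.AlgStLib

variable {S : Scheme.{u}} {G X : Over S} [GrpObj G] {aX : AlgGrp.Action G X}

/-- an etale object as an fppf object -/
abbrev toObj (A : AlgSt.QuotObj Scheme.etalePrecoverage G aX) :
    AlgSt.QuotObj Scheme.fppfPrecoverage G aX where
  base := A.base
  P := A.P
  act := A.act
  π := A.π
  cart := A.cart
  loc := by
    obtain ⟨R, hR, hs⟩ := A.loc
    exact ⟨R, QuotShLib.etalePrecoverage_le_fppf _ hR, hs⟩
  φ := A.φ
  eqv := A.eqv

variable (G aX) in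
/-- etale quotient objects as fppf quotient objects -/
def toFppf : AlgSt.QuotSt Scheme.etalePrecoverage G aX ⥤ᵇ AlgSt.QuotSt Scheme.fppfPrecoverage G aX where
  toFunctor :=
    { obj := toObj
      map := fun {A B} f => ⟨f.base, f.top, f.eqv, f.cart, f.wφ⟩
      map_id := fun _ => rfl
      map_comp := fun _ _ => rfl }
  w := rfl

instance : (toFppf G aX).toFunctor.Faithful :=
  ⟨fun {A B} f g h => AlgSt.QuotObj.hom_ext
    (congrArg (fun k : toObj A ⟶ toObj B => AlgSt.QuotObj.Hom.base k) h)
    (congrArg (fun k : toObj A ⟶ toObj B => AlgSt.QuotObj.Hom.top k) h)⟩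

instance : (toFppf G aX).toFunctor.Full :=
  ⟨fun f => ⟨⟨f.base, f.top, f.eqv, f.cart, f.wφ⟩, rfl⟩⟩

/-- a smooth surjection has sections etale locally -/
theorem isLocallyTrivialFor_etale {T : Scheme.{u}} (P : Over T) [Smooth P.hom] [Surjective P.hom] :
    NonAbH1.IsLocallyTrivialFor Scheme.etalePrecoverage P := by
  have key : ∀ t : T, ∃ (T' : Scheme.{u}) (g : T' ⟶ T) (t' : T'),
      Etale g ∧ g t' = t ∧ ∃ h : T' ⟶ P.left, h ≫ P.hom = g := fun t => by
    obtain ⟨p, hp⟩ := Scheme.Hom.surjective P.hom t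
    obtain ⟨T', g, t', hg, ht, h⟩ := SmSect.exists_etale_section P.hom p
    exact ⟨T', g, t', hg, ht.trans hp, h⟩
  choose T' g t' hg ht h hh using key
  refine ⟨Presieve.ofArrows T' g, (Scheme.ofArrows_mem_precoverage_iff _).2
    ⟨fun t => ⟨t, t' t, ht t⟩, hg⟩, ?_⟩
  rintro W f ⟨t⟩
  exact ⟨h t, hh t⟩

/-- fppf torsors under a smooth group are etale torsors -/
theorem etale_loc [Smooth G.hom] (A : AlgSt.QuotObj Scheme.fppfPrecoverage G aX) :
    NonAbH1.IsLocallyTrivialFor Scheme.etalePrecoverage (Over.mk A.π.left : Over A.base.left) := by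
  have h₁ : Surjective G.hom := ⟨fun x => ⟨η[G].left x, by
    rw [← Scheme.Hom.comp_apply, Over.w η[G]]; rfl⟩⟩
  have : Smooth A.π.left := Quot.prop_π @Smooth ‹_› A
  have : Surjective A.π.left := Quot.prop_π @Surjective h₁ A
  have : Smooth (Over.mk A.π.left : Over A.base.left).hom := ‹Smooth A.π.left›
  have : Surjective (Over.mk A.π.left : Over A.base.left).hom := ‹Surjective A.π.left›
  exact isLocallyTrivialFor_etale _

theorem isEquivOver_toFppf [Smooth G.hom] : FibCat.IsEquivOver (toFppf G aX) :=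
  isEquivOver_of_fullyFaithful _ fun A =>
    ⟨⟨A.base, A.P, A.act, A.π, A.cart, etale_loc A, A.φ, A.eqv⟩, Iso.refl _, rfl, rfl⟩

end Groth.Agent.QuotEtale

end
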